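import Cfsg.Agent.TwInvolF4.Steps

/-!
# The twelve layers of the unipotent group of ²F₄(q): tables (owner: helper31)
-/

set_option autoImplicit false

namespace Cfsg.Agent.ReeF4Mult

open Cfsg.Lie Cfsg.Agent.TwInvolF4

/-- The parameters in the order of the layers. -/
def ord : List ℕ := [0, 10, 11, 1, 4, 7, 9, 2, 3, 6, 8, 5]

/-- The block of a parameter and whether it is its first coordinate. -/
def blockOf (p : ℕ) : ℕ × Bool :=
  [(1, true), (2, true), (2, false), (3, true), (4, true), (4, false), (5, true), (6, true), (6, false),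
    (7, true), (8, true), (8, false)].getD p (0, true)

/-- The roots of a parameter with their exponents `m₀ + m₁ e`. -/
def slotsOf (p : ℕ) : List (ℕ × ℕ × ℕ) :=
  let b := blocks.getD ((blockOf p).1 - 1) []
  if (blockOf p).1 % 2 = 1 then [(b.getD 0 0, 0, 1), (b.getD 1 0, 1, 0)]
  else if (blockOf p).2 then [(b.getD 0 0, 0, 1), (b.getD 1 0, 1, 0), (b.getD 2 0, 1, 1)]
  else [(b.getD 2 0, 1, 0), (b.getD 3 0, 0, 2)]

/-- The weight of a parameter: exponents `(A₀, A₁, B₀, B₁)` of the two torus coordinates. -/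
def wtOf (p : ℕ) : ℤ × ℤ × ℤ × ℤ :=
  [(2, 0, -1, 0), (1, 0, 1, -2), (1, 1, 0, -1), (0, 2, 1, -2), (-1, 2, 0, 0), (0, 1, 0, 0), (0, 0, -1, 2),
    (1, -2, -1, 2), (0, -1, 0, 1), (0, -2, 1, 0), (-1, 0, 2, -2), (-1, -1, 1, 0)].getD p (0, 0, 0, 0)

/-- Whether an exponent `x₀ + x₁ e` times `m₀ + m₁ e` is `y₀ + y₁ e`. -/
def sameExp (x₀ x₁ : ℤ) (m₀ m₁ : ℕ) (y₀ y₁ : ℤ) : Bool :=
  decide (2 * (x₀ * m₀ - y₀) + x₁ * m₁ = 0) && decide (x₀ * m₁ + x₁ * m₀ = y₁)

/-- Whether two weights are independent. -/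
def indep (w v : ℤ × ℤ × ℤ × ℤ) : Bool :=
  let d₀ := w.1 * v.2.2.1 - v.1 * w.2.2.1
  let d₁ := w.1 * v.2.2.2 + w.2.1 * v.2.2.1 - v.1 * w.2.2.2 - v.2.1 * w.2.2.1
  let d₂ := w.2.1 * v.2.2.2 - v.2.1 * w.2.2.2
  [1, 2, 4, 8, 16, 32, 64, 128].contains (2 * (2 * d₀ + d₂) ^ 2 - (2 * d₁) ^ 2).natAbs

/-- Whether the norm of an exponent is a power of two. -/
def unitExp (x₀ x₁ : ℤ) : Bool := [1, 2, 4, 8, 16].contains (2 * (2 * x₀) ^ 2 - (2 * x₁) ^ 2).natAbs

/-- A parameter as a symbolic word. -/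
def lsym (p : ℕ) (t T : Pol) : SWord :=
  if (blockOf p).2 then blockSym (blockOf p).1 t T [] [] else blockSym (blockOf p).1 [] [] t T

/-- The positions of the parameters among the coordinates. -/
def coordPos : List ℕ := [1, 3, 5, 7, 9, 11, 13, 15, 17, 19, 21, 23]

/-- Whether the parameters of a word lie after the layer `k`. -/
def after (k : ℕ) (w : SWord) : Bool :=
  match pick coordPos w with
  | none => false
  | some ps => (List.range 12).all fun p => (ps.getD p [] == []) || decide (k < ord.idxOf p)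

/-- The symbolic commutator of two layers. -/
def commSym (i j : ℕ) : SWord :=
  lsym (ord.getD i 0) (pvar 0) (pvar 1) ++ lsym (ord.getD j 0) (pvar 2) (pvar 3) ++
    (lsym (ord.getD i 0) (pvar 0) (pvar 1)).reverse ++ (lsym (ord.getD j 0) (pvar 2) (pvar 3)).reverse

/-- The symbolic defect of additivity of a layer. -/
def addSym (j : ℕ) : SWord :=
  (lsym (ord.getD j 0) (padd (pvar 0) (pvar 2)) (padd (pvar 1) (pvar 3))).reverse ++
    (lsym (ord.getD j 0) (pvar 0) (pvar 1) ++ lsym (ord.getD j 0) (pvar 2) (pvar 3))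

theorem ord_lt : ∀ j < 12, ord.getD j 0 < 12 := by decide +kernel

theorem ord_idxOf : ∀ p < 12, ord.getD (ord.idxOf p) 0 = p ∧ ord.idxOf p < 12 := by decide +kernel

theorem slot_lt : ∀ p < 12, ∀ s ∈ slotsOf p, s.1 < chevF4.nroots := by decide +kernel

theorem weight_table : ∀ p < 12, ∀ s ∈ slotsOf p,
    sameExp (wtOf p).1 (wtOf p).2.1 s.2.1 s.2.2 (chevF4.cartan 3 s.1) (chevF4.cartan 0 s.1) = true ∧
      sameExp (wtOf p).2.2.1 (wtOf p).2.2.2 s.2.1 s.2.2 (chevF4.cartan 2 s.1) (chevF4.cartan 1 s.1) = true := by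
  decide +kernel

theorem unit_table : ∀ p < 12, unitExp (wtOf p).1 (wtOf p).2.1 = true ∨
    unitExp (wtOf p).2.2.1 (wtOf p).2.2.2 = true := by decide +kernel

/-- The dependent pairs of parameters: the two coordinates of one block. -/
def depPairs : List (ℕ × ℕ) := [(1, 2), (4, 5), (7, 8), (10, 11)]

theorem indep_table : ∀ i : Fin 12, ∀ k : Fin 12, i.1 < k.1 →
    (indep (wtOf (ord.getD i.1 0)) (wtOf (ord.getD k.1 0)) || depPairs.contains (ord.getD i.1 0, ord.getD k.1 0)) = true := by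
  decide +kernel

theorem comm_table : ∀ i < 12, ∀ j < 12, i ≤ j → after j (commSym i j) = true := by decide +kernel

theorem add_table : ∀ j < 12, after j (addSym j) = true := by decide +kernel

end Cfsg.Agent.ReeF4Mult
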